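import Cfsg.Agent.H63.E7.Wy

/-! Counting weights on `7²` and `5³`. -/

set_option autoImplicit false

namespace Cfsg.Agent.H63.E7

open Finset Cfsg.Lie Cfsg.Agent.H37

theorem g_inv {X J : Type} [DecidableEq X] (ℓ : Fin 56 → X) (φ : J → X → X) (hφ : ∀ j, Function.Injective (φ j))
    (h : ∀ j, ∃ π : Equiv.Perm (Fin 56), ∀ k, ℓ (π k) = φ j (ℓ k)) (w : List J) (v : X) :
    #{k | ℓ k = w.foldr φ v} = #{k | ℓ k = v} := by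
  induction w with
  | nil => rfl
  | cons j w ih =>
    obtain ⟨π, e⟩ := h j
    rw [← ih]
    refine (card_equiv π fun k => ?_).symm
    rw [mem_filter_univ, mem_filter_univ, e, List.foldr_cons, (hφ j).eq_iff]

theorem count_cls {X : Type} [Fintype X] [DecidableEq X] {m : ℕ} (ℓ : Fin 56 → X) (cls : X → Fin m) (G : Fin m → ℕ)
    (h : ∀ v, #{k | ℓ k = v} = G (cls v)) (p : X → Prop) [DecidablePred p] :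
    #{k | p (ℓ k)} = ∑ c, #{v | p v ∧ cls v = c} * G c := by
  rw [card_eq_sum_card_fiberwise (f := ℓ) (t := univ.filter p) (fun k hk => by simpa using hk),
    ← sum_fiberwise _ cls]
  refine sum_congr rfl fun c _ => ?_
  rw [filter_filter, ← smul_eq_mul, ← sum_const]
  refine sum_congr rfl fun v hv => ?_
  simp only [mem_filter, mem_univ, true_and] at hv
  rw [← hv.2, ← h, filter_filter]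
  exact congrArg card (filter_congr fun k _ => ⟨fun e => e.2, fun e => ⟨e ▸ hv.1, e⟩⟩)

abbrev V7 := ZMod 7 × ZMod 7

def f7 (j : Fin 2) (v : V7) : V7 := if j = 0 then (2 * v.1, v.2) else (-v.2, v.1)
def d7 (j : Fin 2) (v : V7) : V7 := if j = 0 then (2 * v.1, v.2) else (v.2, -v.1)
def c7 (v : V7) : Fin 3 := (if v.1 = 0 then 0 else 1) + if v.2 = 0 then 0 else 1
def r7 : Fin 3 → V7 := ![(0, 0), (1, 0), (1, 1)]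
def k7 (v : V7) : ℕ := 7 * v.1.val + v.2.val
def dT7 : List (List (Fin 2)) := [[], [1, 1, 1], [1, 1, 1, 0], [1, 0, 0], [1, 1, 1, 0, 0], [1, 0], [1], [], [], [1, 1, 1, 0, 1], [1, 0, 0], [1, 1, 1, 0, 0, 1], [1, 0], [1], [0], [0], [1, 1, 1, 0, 1, 0], [0, 1, 0, 0], [1, 1, 1, 0, 0, 1, 0], [0, 1, 0], [0, 1], [1, 1, 0, 0], [1, 1, 0, 0, 1], [1, 1, 0, 0, 1, 0], [1, 0, 0, 1, 0, 0], [1, 1, 0, 0, 1, 0, 0], [1, 0, 1, 0, 0], [1, 1, 0, 0], [0, 0], [0, 0], [1, 1, 1, 0, 1, 0, 0], [0, 0, 1, 0, 0], [1, 1, 1, 0, 0, 1, 0, 0], [0, 0, 1, 0], [0, 0, 1], [1, 1, 0], [1, 1, 0, 1], [1, 1, 0, 1, 0], [1, 0, 0, 1, 0], [1, 1, 0, 1, 0, 0], [1, 0, 1, 0], [1, 1, 0], [1, 1], [1, 1, 1], [1, 1, 1, 0], [1, 0, 0, 1], [1, 1, 1, 0, 0], [1, 0, 1], [1, 1]]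
def rT7 : List (List (Fin 2)) := [[], [1, 1, 1, 0, 1], [1, 1, 1, 0, 1], [1, 1, 1, 0, 1], [1, 1, 1, 0, 1], [1, 1, 1, 0, 1], [1, 1, 1, 0, 1], [0], [1, 1, 1, 0, 1, 0], [1, 1, 1, 0, 1, 0], [1, 1, 1, 0, 1, 0], [1, 1, 1, 0, 1, 0], [1, 1, 1, 0, 1, 0], [1, 1, 1, 0, 1, 0], [0], [1, 1, 1, 0, 1, 0], [1, 1, 1, 0, 1, 0], [1, 1, 1, 0, 1, 0], [1, 1, 1, 0, 1, 0], [1, 1, 1, 0, 1, 0], [1, 1, 1, 0, 1, 0], [0], [1, 1, 1, 0, 1, 0], [1, 1, 1, 0, 1, 0], [1, 1, 1, 0, 1, 0], [1, 1, 1, 0, 1, 0], [1, 1, 1, 0, 1, 0], [1, 1, 1, 0, 1, 0], [0], [1, 1, 1, 0, 1, 0], [1, 1, 1, 0, 1, 0], [1, 1, 1, 0, 1, 0], [1, 1, 1, 0, 1, 0], [1, 1, 1, 0, 1, 0], [1, 1, 1, 0, 1, 0], [0], [1, 1, 1, 0, 1, 0], [1, 1, 1, 0, 1, 0], [1, 1, 1, 0, 1, 0], [1, 1, 1, 0, 1, 0], [1, 1, 1, 0, 1, 0], [1, 1, 1, 0, 1, 0], [0], [1, 1, 1, 0, 1,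 0], [1, 1, 1, 0, 1, 0], [1, 1, 1, 0, 1, 0], [1, 1, 1, 0, 1, 0], [1, 1, 1, 0, 1, 0], [1, 1, 1, 0, 1, 0]]
def iT7 : List (List (Fin 2) × List (Fin 2)) := [([], []), ([1, 0, 1], [1]), ([], [1, 1, 0, 1]), ([], [1]), ([], [1, 1, 1]), ([], [0, 1]), ([], [0, 0, 1]), ([], [0, 0]), ([1, 0], [0, 1]), ([1, 1, 0], [1, 1]), ([1, 1, 0], [1, 1]), ([0, 1, 0], [1]), ([1, 0], [1, 1, 0]), ([1], [0, 0]), ([], [0]), ([0, 1], [0, 1]), ([1, 0], [1]), ([1, 0], [1, 1]), ([0, 0, 1], [1]), ([1], [0]), ([1, 1, 0, 0], []), ([], [1, 1]), ([0, 1, 0], []), ([1, 0, 0], []), ([1], [1]), ([1], [1, 1]), ([1, 1, 0], [0]), ([1, 1, 0], [0]), ([], []), ([1, 0, 1], [1]), ([0, 1], [1]), ([1], []), ([1, 1, 1], []), ([0, 1, 0, 0], []), ([0, 0, 1, 0], []), ([0], []), ([1, 0, 0], [0]), ([0, 1], []), ([1, 1, 1, 0], []), ([1,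 0], []), ([1], [0, 1]), ([1, 1, 0], [0, 0]), ([0], [0]), ([0, 1], [0]), ([1, 0], [0]), ([1, 1, 0], []), ([1, 1, 0], []), ([1, 1, 0], []), ([1, 1, 0], [])]

theorem dT7_ok : ∀ v, (dT7.getD (k7 v) []).foldr d7 (r7 (c7 v)) = v := by decide +kernel
theorem rT7_ok : ∀ v, (rT7.getD (k7 v) []).foldr f7 v = v + v := by decide +kernel
theorem iT7_ok : ∀ v, v ≠ 0 → (iT7.getD (k7 v) ([], [])).2.foldr f7 (v + (iT7.getD (k7 v) ([], [])).1.foldr f7 v) = (1, 0) := by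
  decide +kernel

abbrev V5 := ZMod 5 × ZMod 5 × ZMod 5

def f5 (j : Fin 2) (v : V5) : V5 := if j = 0 then (2 * v.1, v.2.2, v.2.1) else (v.2.2, v.1, v.2.1)
def d5 (j : Fin 2) (v : V5) : V5 := if j = 0 then (2 * v.1, v.2.2, v.2.1) else (v.2.1, v.2.2, v.1)
def c5 (v : V5) : Fin 4 := (if v.1 = 0 then 0 else 1) + (if v.2.1 = 0 then 0 else 1) + if v.2.2 = 0 then 0 else 1
def r5 : Fin 4 → V5 := ![(0, 0, 0), (1, 0, 0), (1, 1, 0), (1, 1, 1)]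
def k5 (v : V5) : ℕ := 25 * v.1.val + 5 * v.2.1.val + v.2.2.val
def dT5 : List (List (Fin 2)) := [[], [1], [1, 0], [1, 0, 0, 0], [1, 0, 0], [0, 1], [1, 1], [1, 0], [1, 0, 0, 0], [1, 0, 0, 1], [0, 1, 0], [0, 1, 0], [1, 0, 1, 1, 0], [1, 0, 0, 0, 1, 1, 0], [1, 1, 0, 1, 0, 0], [0, 1, 0, 0, 0], [0, 1, 0, 0, 0], [1, 0, 1, 1, 0, 0, 0], [1, 0, 0, 0, 1, 1, 0, 0, 0], [1, 1, 0, 0, 0, 1, 0, 0], [0, 1, 0, 0], [1, 1, 0, 0], [0, 1, 1, 0, 1, 0, 0], [1, 1, 0, 0, 1, 1, 0, 0, 0], [1, 0, 0, 1, 0, 0], [], [1], [1, 0, 1], [1, 0, 0, 0, 1], [1, 0, 0], [], [], [1, 0], [1, 0, 0, 0], [1, 0, 0], [1, 1, 0], [1, 1, 0], [1, 1, 0, 1, 0], [1, 1, 0, 1, 0, 0, 0], [1, 0, 0, 1, 0], [1, 1, 0, 0, 0], [1, 1, 0, 0, 0], [1, 0, 1, 1, 0, 0, 0], [1, 1, 0, 0, 0, 1, 0, 0, 0], [1, 0, 0, 1, 0, 0, 0], [1, 1, 0, 0, 1], [1, 1,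 0, 0], [1, 0, 1, 1, 0, 0], [1, 0, 0, 0, 1, 1, 0, 0], [1, 0, 0, 1, 0, 0], [0], [0], [0, 1, 1, 0], [0, 1, 1, 0, 0, 0], [1, 0, 0, 1, 1, 0], [0, 1], [0], [1, 0, 1, 0], [0, 1, 1, 0, 0, 0], [0, 1, 1, 0, 0], [0, 1, 0, 1], [0, 1, 0], [0, 1, 1, 0, 1, 0], [0, 1, 0, 1, 1, 0, 0, 0], [0, 1, 0, 1, 1, 0, 0], [0, 1, 0, 0, 0, 1], [0, 1, 0, 0, 0], [0, 1, 1, 0, 1, 0, 0, 0], [0, 1, 1, 0, 0, 0, 1, 0, 0, 0], [0, 1, 0, 0, 0, 1, 1, 0, 0], [0, 1, 0, 0], [0, 1, 0, 0], [0, 1, 0, 0, 1, 0], [0, 1, 0, 0, 1, 0, 0, 0], [0, 1, 0, 0, 1, 0, 0], [0, 0, 0], [0, 0, 0], [0, 0, 0, 1, 1, 0], [0, 0, 0, 1, 1, 0, 0, 0], [1, 0, 0, 1, 1, 0, 0, 0], [0, 0, 0, 1], [0, 0, 0], [1, 0, 1, 0, 0, 0], [1, 0, 0, 0, 1, 0, 0, 0], [0, 0, 0, 1, 1, 0, 0], [0, 1, 0, 1, 0, 0], [0, 0, 0, 1, 0], [0, 1, 0, 1, 0, 0, 1, 0], [0, 1, 0, 1, 0, 0,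 1, 0, 0, 0], [0, 1, 0, 1, 0, 0, 1, 0, 0], [0, 1, 0, 0, 0, 1, 0, 0], [0, 0, 0, 1, 0, 0, 0], [0, 0, 0, 1, 1, 0, 1, 0, 0, 0], [0, 0, 0, 1, 1, 0, 0, 0, 1, 0, 0, 0], [0, 1, 0, 0, 0, 1, 0, 0, 1, 0, 0], [0, 0, 0, 1, 0, 0], [0, 0, 0, 1, 0, 0], [0, 0, 0, 1, 0, 0, 1, 0], [0, 0, 0, 1, 0, 0, 1, 0, 0, 0], [0, 0, 0, 1, 0, 0, 1, 0, 0], [0, 0], [0, 0, 1], [1, 0, 1, 0, 0], [1, 0, 0, 0, 1, 0, 0], [0, 0, 1, 0, 0], [0, 0], [0, 0], [0, 0, 1, 0], [0, 0, 1, 0, 0, 0], [0, 0, 1, 0, 0], [0, 0, 1, 1, 0], [0, 1, 0, 1, 0], [1, 0, 1, 0, 0, 1, 0], [0, 0, 1, 1, 0, 1, 0, 0, 0], [0, 0, 1, 0, 0, 1, 0], [0, 0, 1, 1, 0, 0, 0], [0, 0, 1, 1, 0, 0, 0], [1, 0, 1, 0, 0, 1, 0, 0, 0], [0, 0, 1, 1, 0, 0, 0, 1, 0, 0, 0], [0, 0, 1, 0, 0, 1, 0, 0, 0], [1, 1, 0, 0, 1, 0, 0], [0, 0, 1, 1, 0, 0], [1, 0, 1, 0, 0, 1, 0, 0], [1,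 0, 0, 0, 1, 0, 0, 1, 0, 0], [0, 0, 1, 0, 0, 1, 0, 0]]
def rT5 : List (List (Fin 2)) := [[], [0, 1, 0, 1], [0, 1, 0, 1], [0, 1, 0, 1], [0, 1, 0, 1], [1, 0, 1, 0], [1, 0, 1, 1, 0, 1], [1, 1, 0, 0, 1, 0], [1, 0, 0, 1, 1, 0], [1, 0, 1, 1, 0, 1], [1, 0, 1, 0], [1, 0, 0, 1, 1, 0], [1, 0, 1, 1, 0, 1], [1, 0, 1, 1, 0, 1], [1, 1, 0, 0, 1, 0], [1, 0, 1, 0], [1, 1, 0, 0, 1, 0], [1, 0, 1, 1, 0, 1], [1, 0, 1, 1, 0, 1], [1, 0, 0, 1, 1, 0], [1, 0, 1, 0], [1, 0, 1, 1, 0, 1], [1, 0, 0, 1, 1, 0], [1, 1, 0, 0, 1, 0], [1, 0, 1, 1, 0, 1], [0], [0, 1, 0, 1], [0, 1, 0, 1], [0, 1, 0, 1], [0, 1, 0, 1], [1, 0, 1, 0], [0, 1, 1, 0, 1, 0], [1, 0, 1, 1, 0, 0], [1, 0, 0, 1, 1, 0], [0, 1, 0, 1, 1, 0], [1, 0, 1, 0], [1, 1, 0, 1, 0, 0], [1, 1, 0, 1, 0, 0], [1, 1, 0, 1, 0, 0], [1, 1, 0, 1, 0, 0], [1, 0, 1, 0],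 [1, 1, 0, 0, 1, 0], [1, 0, 1, 1, 0, 0], [1, 0, 1, 0, 0, 1], [1, 0, 0, 1, 1, 0], [1, 0, 1, 0], [0, 1, 1, 0, 1, 0], [1, 0, 1, 1, 0, 0], [1, 1, 0, 0, 1, 0], [1, 0, 1, 1, 0, 1, 0], [0], [0, 1, 0, 1], [0, 1, 0, 1], [0, 1, 0, 1], [0, 1, 0, 1], [1, 0, 1, 0], [1, 0, 1, 0, 0, 1], [1, 1, 0, 0, 1, 0], [1, 0, 0, 1, 1, 0], [1, 0, 1, 1, 0, 0], [1, 0, 1, 0], [1, 0, 0, 1, 1, 0], [0, 1, 1, 0, 1, 0], [0, 1, 0, 1, 1, 0], [1, 0, 1, 1, 0, 0], [1, 0, 1, 0], [1, 1, 0, 0, 1, 0], [0, 1, 1, 0, 1, 0], [1, 0, 1, 1, 0, 1, 0], [1, 0, 1, 1, 0, 0], [1, 0, 1, 0], [1, 1, 0, 1, 0, 0], [1, 1, 0, 1, 0, 0], [1, 1, 0, 1, 0, 0], [1, 1, 0, 1, 0, 0], [0], [0, 1, 0, 1], [0, 1, 0, 1], [0, 1, 0, 1], [0, 1, 0, 1], [1, 0, 1, 0], [1, 1, 0, 1, 0, 0], [1, 1, 0, 1, 0, 0], [1, 1, 0, 1, 0, 0], [1, 1, 0, 1, 0, 0], [1, 0, 1, 0],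 [1, 0, 1, 1, 0, 0], [1, 0, 1, 1, 0, 1, 0], [0, 1, 1, 0, 1, 0], [1, 1, 0, 0, 1, 0], [1, 0, 1, 0], [1, 0, 1, 1, 0, 0], [0, 1, 0, 1, 1, 0], [0, 1, 1, 0, 1, 0], [1, 0, 0, 1, 1, 0], [1, 0, 1, 0], [1, 0, 1, 1, 0, 0], [1, 0, 0, 1, 1, 0], [1, 1, 0, 0, 1, 0], [1, 0, 1, 0, 0, 1], [0], [0, 1, 0, 1], [0, 1, 0, 1], [0, 1, 0, 1], [0, 1, 0, 1], [1, 0, 1, 0], [1, 0, 1, 1, 0, 1, 0], [1, 1, 0, 0, 1, 0], [1, 0, 1, 1, 0, 0], [0, 1, 1, 0, 1, 0], [1, 0, 1, 0], [1, 0, 0, 1, 1, 0], [1, 0, 1, 0, 0, 1], [1, 0, 1, 1, 0, 0], [1, 1, 0, 0, 1, 0], [1, 0, 1, 0], [1, 1, 0, 1, 0, 0], [1, 1, 0, 1, 0, 0], [1, 1, 0, 1, 0, 0], [1, 1, 0, 1, 0, 0], [1, 0, 1, 0], [0, 1, 0, 1, 1, 0], [1, 0, 0, 1, 1, 0], [1, 0, 1, 1, 0, 0], [0, 1, 1, 0, 1, 0]]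
def iT5 : List (List (Fin 2) × List (Fin 2)) := [([], []), ([], [0, 0, 0, 1]), ([], [0, 0, 1]), ([], [1]), ([], [0, 1]), ([], [0, 0, 0, 1, 0]), ([1, 0, 0, 1, 1], [0, 0, 0, 1]), ([1, 0, 1], [0, 1]), ([1, 0, 0, 1, 1], [1]), ([0, 1, 0, 1, 0], [1]), ([], [0, 0, 1, 0]), ([1, 0, 0, 0, 1], [0, 1]), ([1, 0, 0, 1, 1], [0, 0, 1]), ([1, 0, 1], [0, 1, 0]), ([1, 0, 1], [1]), ([], [1, 0]), ([1, 0, 1], [0, 0, 1]), ([0, 1, 0, 1, 0], [0, 1]), ([1, 0, 0, 1, 1], [1]), ([1, 1, 0, 0, 1], [1, 0]), ([], [0, 1, 0]), ([1, 0, 1], [1, 0]), ([1, 0, 0, 0, 1], [1]), ([1, 0, 0, 1, 1], [1]), ([1, 0, 0, 1, 1], [0, 1]), ([0], [0]), ([0, 1, 0, 0], [0]), ([0, 1], [0, 1]), ([0, 0], [1]), ([0, 0], [0, 1]), ([0, 1, 1, 0, 0], [0]), ([0, 1, 0, 0, 1, 0, 0], [0]), ([1, 0, 1, 0, 0], [0, 1]), ([1, 0, 0, 1, 0], [0, 0]),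 ([0], [0]), ([1, 0, 0, 0], [0]), ([0, 1, 0, 1, 0], [0, 1, 0]), ([0, 1, 0, 0, 1], [0, 1, 0]), ([0], [0]), ([1, 0, 1, 1], [1, 0]), ([0, 0], [1, 0]), ([1, 0, 1, 0, 0], [0, 0, 1]), ([0], [0]), ([0, 0, 0, 1, 0], [1, 0]), ([1, 0, 0, 1, 0], [1]), ([1, 0], [1, 0]), ([0], [0]), ([1, 1, 0, 1], [1]), ([1, 1, 0, 1], [0, 0, 1]), ([1], [0, 1]), ([0], []), ([1, 1, 0], [0]), ([0, 1, 0, 0], []), ([0, 0], [1]), ([0, 1], [1]), ([1, 0], [0]), ([1, 0, 0, 1, 0], [0]), ([1, 0, 1, 0, 0], [0, 1]), ([1, 0, 1, 1], [0, 1, 0]), ([0], []), ([0, 1, 1, 0, 0], []), ([1, 0, 0, 1, 0], [0]), ([0, 1, 0, 0, 1, 0, 0], []), ([0], []), ([1, 0, 1, 0, 0], [1]), ([0, 0], [1, 0]), ([1, 1, 0, 1], [0, 1]), ([0], []), ([1], [1]), ([0, 1, 0, 0, 1], [0]), ([1, 0, 0, 0], []), ([0], []), ([0, 1, 0, 1, 0], [1, 0]), ([0, 1, 0, 0,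 1], [1, 0]), ([0, 1, 0, 0, 1], [1, 0]), ([], []), ([0, 1], [0, 0, 1]), ([0, 0], [0, 0, 1]), ([0, 0], [1]), ([0, 0], [0, 1]), ([1, 0, 0, 1, 1], []), ([1, 0, 0, 1, 0, 0, 1], []), ([1, 0, 1, 1], [0, 1, 0]), ([1, 1, 0, 1, 0, 0, 0], []), ([0], [0, 0]), ([1, 0], [0, 1, 0]), ([1, 1, 0, 1], [0, 1]), ([1], [0, 0, 1]), ([1], []), ([1, 0, 1, 0, 0], [1]), ([0, 0], [1, 0]), ([1, 0, 1, 1, 0, 0, 0], []), ([1, 1], []), ([0, 0, 1, 0, 0], [1]), ([0, 1, 0, 1, 1, 0, 0], []), ([0, 0], [0, 1, 0]), ([0], [0, 0]), ([1, 0, 0, 1, 0], [0, 1]), ([0, 1, 1, 0, 1, 0, 0], []), ([0, 1, 0, 0, 1, 0], []), ([], [0]), ([0, 1], []), ([1, 1, 0], []), ([0, 0], [1]), ([0, 0], [0, 1]), ([0, 1, 1], []), ([1], [0, 0, 0, 1]), ([1, 1, 0, 1], [1]), ([0, 1, 0, 0, 1], []), ([1], [0]), ([1, 0], []), ([1, 0, 1, 1], [1, 0]), ([1,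 0, 0, 1, 0], []), ([0, 0, 0], []), ([1, 0, 1, 0, 0], [1]), ([0, 0], [1, 0]), ([1, 0, 0, 1, 1, 0, 1], []), ([0, 0, 0], []), ([0, 1, 0, 0, 0], [1, 0]), ([1, 1, 0, 1, 0, 0, 0], [0]), ([0, 0], [0, 1, 0]), ([1, 1], [0]), ([1, 0, 0, 1, 0], []), ([1, 0, 1, 1, 0, 0, 0], [0]), ([0, 0, 1, 0, 0], [0, 1])]

theorem dT5_ok : ∀ v, (dT5.getD (k5 v) []).foldr d5 (r5 (c5 v)) = v := by decide +kernel
theorem rT5_ok : ∀ v, (rT5.getD (k5 v) []).foldr f5 v = v + v := by decide +kernel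
theorem iT5_ok : ∀ v, v ≠ 0 →
    (iT5.getD (k5 v) ([], [])).2.foldr f5 (v + (iT5.getD (k5 v) ([], [])).1.foldr f5 v) = (1, 0, 0) := by
  decide +kernel

theorem foldr_mem {V J : Type} [AddCommGroup V] {f : J → V → V} {U : AddSubgroup V} (h : ∀ j, ∀ v ∈ U, f j v ∈ U)
    (w : List J) {v : V} (hv : v ∈ U) : w.foldr f v ∈ U := by
  induction w with
  | nil => exact hv
  | cons j w ih => exact h j _ ih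

theorem gen7 : ∀ v : V7, v = v.1.val • ((1, 0) : V7) + v.2.val • ((0, 1) : V7) := by decide +kernel

theorem gen5 : ∀ v : V5, v = v.1.val • ((1, 0, 0) : V5) + v.2.1.val • ((0, 1, 0) : V5) + v.2.2.val • ((0, 0, 1) : V5) := by
  decide +kernel

theorem irr7 (U : AddSubgroup V7) (h : ∀ j, ∀ v ∈ U, f7 j v ∈ U) : U = ⊥ ∨ U = ⊤ := by
  refine (eq_or_ne U ⊥).imp_right fun hU => ?_
  obtain ⟨⟨v, hv⟩, h0⟩ := AddSubgroup.ne_bot_iff_exists_ne_zero.1 hU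
  have h1 : ((1, 0) : V7) ∈ U :=
    iT7_ok v (fun e => h0 (Subtype.ext e)) ▸ foldr_mem h _ (add_mem hv (foldr_mem h _ hv))
  have h2 : ((0, 1) : V7) ∈ U := h 1 _ h1
  exact top_unique fun x _ => gen7 x ▸ add_mem (nsmul_mem h1 _) (nsmul_mem h2 _)

theorem irr5 (U : AddSubgroup V5) (h : ∀ j, ∀ v ∈ U, f5 j v ∈ U) : U = ⊥ ∨ U = ⊤ := by
  refine (eq_or_ne U ⊥).imp_right fun hU => ?_
  obtain ⟨⟨v, hv⟩, h0⟩ := AddSubgroup.ne_bot_iff_exists_ne_zero.1 hU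
  have h1 : ((1, 0, 0) : V5) ∈ U :=
    iT5_ok v (fun e => h0 (Subtype.ext e)) ▸ foldr_mem h _ (add_mem hv (foldr_mem h _ hv))
  have h2 : ((0, 1, 0) : V5) ∈ U := h 1 _ h1
  have h3 : ((0, 0, 1) : V5) ∈ U := h 1 _ h2
  exact top_unique fun x _ => gen5 x ▸ add_mem (add_mem (nsmul_mem h1 _) (nsmul_mem h2 _)) (nsmul_mem h3 _)

theorem wt_nsmul {s : ℕ} [NeZero s] (k : Fin 56) (a : ZMod s) (u : Fin 7 → ZMod s) : wt k (a.val • u) = a * wt k u := by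
  rw [← Nat.cast_smul_eq_nsmul (ZMod s), wt_smul, ZMod.natCast_zmod_val]

variable [Chev chevE7]

theorem cnt7 (L : V7 →+ (Fin 7 → ZMod 7)) (hL : Function.Injective L) (h : ∀ j, ∃ l, ∀ v, act l (L v) = L (f7 j v)) :
    False := by
  let ℓ : Fin 56 → V7 := fun k => (wt k (L (1, 0)), wt k (L (0, 1)))
  have h1 : ∀ k v, wt k (L v) = v.1 * (ℓ k).1 + v.2 * (ℓ k).2 := fun k v => by
    conv_lhs => rw [gen7 v, map_add, map_nsmul, map_nsmul, wt_add, wt_nsmul, wt_nsmul]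
  have h2 : ∀ v, #{k | ℓ k = v} = #{k | ℓ k = r7 (c7 v)} := fun v => by
    conv_lhs => rw [← dT7_ok v]
    refine g_inv ℓ d7 (by decide +kernel) (fun j => ?_) _ _
    obtain ⟨l, e⟩ := h j
    obtain ⟨π, e'⟩ := exists_perm (R := ZMod 7) l
    refine ⟨π, fun k => ?_⟩
    change (wt (π k) _, wt (π k) _) = _
    rw [← e', ← e', e, e, h1, h1]
    fin_cases j <;> simp [f7, d7]
  have h3 := count_cls ℓ c7 (fun c => #{k | ℓ k = r7 c}) h2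
  have h4 : ∀ v j, cnt (L v) j = ∑ c, #{x : V7 | v.1 * x.1 + v.2 * x.2 = j ∧ c7 x = c} * #{k | ℓ k = r7 c} :=
    fun v j => by rw [← h3 fun x => v.1 * x.1 + v.2 * x.2 = j]; simp only [cnt, h1]
  have h5 : ∀ v ∈ [((1, 0) : V7), (1, 1)], ∀ j c, #{x : V7 | v.1 * x.1 + v.2 * x.2 = 2 * j ∧ c7 x = c} =
      #{x : V7 | v.1 * x.1 + v.2 * x.2 = j ∧ c7 x = c} := by decide +kernel
  have h6 : ∀ v ∈ [((1, 0) : V7), (1, 1)], cnt (L v) 1 ∈ [6, 8, 9] := fun v hv =>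
    rat7 (fun j => by simp only [h4, h5 v hv]) fun e => by
      have : v = 0 := hL (e.trans (map_zero L).symm)
      subst this; exact absurd hv (by decide +kernel)
  have a := h6 (1, 0) (by simp)
  have b := h6 (1, 1) (by simp)
  have c := h3 fun _ => True
  have e1 : ∀ c, #{x : V7 | (1 : ZMod 7) * x.1 + 0 * x.2 = 1 ∧ c7 x = c} = ![0, 1, 6] c := by decide +kernel
  have e2 : ∀ c, #{x : V7 | (1 : ZMod 7) * x.1 + 1 * x.2 = 1 ∧ c7 x = c} = ![0, 2, 5] c := by decide +kernel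
  have e3 : ∀ c, #{x : V7 | True ∧ c7 x = c} = ![1, 12, 36] c := by decide +kernel
  rw [h4] at a b
  simp only [e1, e2, e3, Fin.sum_univ_three] at a b c
  simp at a b c
  omega

theorem cnt5 (L : V5 →+ (Fin 7 → ZMod 5)) (hL : Function.Injective L) (h : ∀ j, ∃ l, ∀ v, act l (L v) = L (f5 j v)) :
    False := by
  let ℓ : Fin 56 → V5 := fun k => (wt k (L (1, 0, 0)), wt k (L (0, 1, 0)), wt k (L (0, 0, 1)))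
  have h1 : ∀ k v, wt k (L v) = v.1 * (ℓ k).1 + v.2.1 * (ℓ k).2.1 + v.2.2 * (ℓ k).2.2 := fun k v => by
    conv_lhs => rw [gen5 v, map_add, map_add, map_nsmul, map_nsmul, map_nsmul, wt_add, wt_add, wt_nsmul, wt_nsmul, wt_nsmul]
  have h2 : ∀ v, #{k | ℓ k = v} = #{k | ℓ k = r5 (c5 v)} := fun v => by
    conv_lhs => rw [← dT5_ok v]
    refine g_inv ℓ d5 (by decide +kernel) (fun j => ?_) _ _
    obtain ⟨l, e⟩ := h j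
    obtain ⟨π, e'⟩ := exists_perm (R := ZMod 5) l
    refine ⟨π, fun k => ?_⟩
    change (wt (π k) _, wt (π k) _, wt (π k) _) = _
    rw [← e', ← e', ← e', e, e, e, h1, h1, h1]
    fin_cases j <;> simp [f5, d5]
  have h3 := count_cls ℓ c5 (fun c => #{k | ℓ k = r5 c}) h2
  have h4 : ∀ j, cnt (L (1, 0, 0)) j = ∑ c, #{x : V5 | x.1 = j ∧ c5 x = c} * #{k | ℓ k = r5 c} :=
    fun j => h3 fun x => x.1 = j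
  have h5 : ∀ j c, #{x : V5 | x.1 = 2 * j ∧ c5 x = c} = #{x : V5 | x.1 = j ∧ c5 x = c} := by decide +kernel
  have a : cnt (L (1, 0, 0)) 1 = 10 := rat5 (fun j => by simp only [h4, h5]) fun e =>
    absurd (hL (e.trans (map_zero L).symm)) (by decide)
  have c := h3 fun _ => True
  have e1 : ∀ c, #{x : V5 | x.1 = 1 ∧ c5 x = c} = ![0, 1, 8, 16] c := by decide +kernel
  have e3 : ∀ c, #{x : V5 | True ∧ c5 x = c} = ![1, 12, 48, 64] c := by decide +kernel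
  rw [h4] at a
  simp only [e1, e3, Fin.sum_univ_four] at a c
  simp at a c
  omega

end Cfsg.Agent.H63.E7
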